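import Groth.Prelude.Def_SixF1
import Groth.Agent.RDPlus.Basic
import Groth.Agent.DTrunc.RightDerived

/-!
# Composition of derived functors of right adjoints of exact functors
-/

universe w w₁ w₂ w₃ v₁ v₂ v₃ u₁ u₂ u₃

open CategoryTheory CategoryTheory.Limits

namespace Groth.Agent.EtSixLib

variable {A : Type u₁} [Category.{v₁} A] [Abelian A] {B : Type u₂} [Category.{v₂} B] [Abelian B]
  {C : Type u₃} [Category.{v₃} C] [Abelian C]

/-- `plusNatTrans` is componentwise the induced map of complexes. -/
theorem isIso_plusNatTrans {F G : A ⥤ B} [F.Additive] [G.Additive] (α : F ⟶ G) [IsIso α] :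
    IsIso (EtSix.plusNatTrans α) := by
  have h : IsIso (NatTrans.mapHomotopyCategory α (ComplexShape.up ℤ)) := by
    refine ⟨NatTrans.mapHomotopyCategory (inv α) _, ?_, ?_⟩
    · rw [← NatTrans.mapHomotopyCategory_comp, IsIso.hom_inv_id, NatTrans.mapHomotopyCategory_id]
    · rw [← NatTrans.mapHomotopyCategory_comp, IsIso.inv_hom_id, NatTrans.mapHomotopyCategory_id]
  haveI : IsIso (Functor.whiskerLeft (HomotopyCategory.Plus.ι A)
      (NatTrans.mapHomotopyCategory α (ComplexShape.up ℤ))) :=
    inferInstanceAs (IsIso (((Functor.whiskeringLeft _ _ _).obj (HomotopyCategory.Plus.ι A)).map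
      (NatTrans.mapHomotopyCategory α (ComplexShape.up ℤ))))
  haveI : IsIso (((Functor.whiskeringRight _ _ _).obj (HomotopyCategory.plus B).ι).map
      (EtSix.plusNatTrans α)) :=
    (congrArg (fun k => IsIso k) (((HomotopyCategory.plus B).fullyFaithfulι.whiskeringRight
      (HomotopyCategory.Plus A)).map_preimage (X := F.mapHomotopyCategoryPlus)
      (Y := G.mapHomotopyCategoryPlus) _)).mpr
      (by assumption)
  exact ((HomotopyCategory.plus B).fullyFaithfulι.whiskeringRight (HomotopyCategory.Plus A)).isIso_of_isIso_map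
    (EtSix.plusNatTrans α)

variable [HasDerivedCategory.{w₁} A] [HasDerivedCategory.{w₂} B] [HasDerivedCategory.{w₃} C]
  [EnoughInjectives A] [EnoughInjectives B]

/-- If `F` preserves injective objects, the unit of `R⁺G` is an isomorphism at `F` of complexes of
injectives. -/
theorem isIso_unit_map (F : A ⥤ B) [F.Additive] (G : B ⥤ C) [G.Additive]
    (hF : ∀ I : A, Injective I → Injective (F.obj I)) (Y : HomotopyCategory.Plus (InjectiveObject A)) :
    IsIso (G.rightDerivedFunctorPlusUnit.app
      (F.mapHomotopyCategoryPlus.obj ((InjectiveObject.ι A).mapHomotopyCategoryPlus.obj Y))) := by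
  let F' : InjectiveObject A ⥤ InjectiveObject B :=
    ObjectProperty.lift _ (InjectiveObject.ι A ⋙ F) fun I => hF _ I.property
  haveI : F'.Additive := { map_add := fun {_ _ _ _} => ObjectProperty.hom_ext _ (F.map_add) }
  let e : (InjectiveObject.ι A).mapHomotopyCategoryPlus ⋙ F.mapHomotopyCategoryPlus ≅
      F'.mapHomotopyCategoryPlus ⋙ (InjectiveObject.ι B).mapHomotopyCategoryPlus :=
    Functor.mapHomotopyCategoryPlusCompIso (Iso.refl (InjectiveObject.ι A ⋙ F)) ≪≫
      (Functor.mapHomotopyCategoryPlusCompIso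
        (Iso.refl _ : F' ⋙ InjectiveObject.ι B ≅ InjectiveObject.ι A ⋙ F)).symm
  have h : IsIso (G.rightDerivedFunctorPlusUnit.app
      ((InjectiveObject.ι B).mapHomotopyCategoryPlus.obj (F'.mapHomotopyCategoryPlus.obj Y))) :=
    inferInstance
  exact (NatTrans.isIso_app_iff_of_iso G.rightDerivedFunctorPlusUnit (e.app Y)).2 h

/-- Bounded below derived functors compose when the first functor preserves injectives. -/
theorem isIso_rPlusDesc₂ {F : A ⥤ B} {G : B ⥤ C} {H : A ⥤ C} [F.Additive] [G.Additive] [H.Additive]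
    (θ : H ⟶ F ⋙ G) [IsIso θ] (hF : ∀ I : A, Injective I → Injective (F.obj I)) :
    IsIso (EtSix.rPlusDesc₂ θ) := by
  haveI := isIso_plusNatTrans θ
  have h : ∀ Y : HomotopyCategory.Plus (InjectiveObject A), IsIso ((EtSix.rPlusDesc₂ θ).app
      (DerivedCategory.Plus.Qh.obj ((InjectiveObject.ι A).mapHomotopyCategoryPlus.obj Y))) := fun Y => by
    have hfac := H.rightDerivedFunctorPlus.rightDerived_fac_app H.rightDerivedFunctorPlusUnit
      (HomotopyCategory.Plus.quasiIso A) (F.rightDerivedFunctorPlus ⋙ G.rightDerivedFunctorPlus)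
      (EtSix.rPlusUnit₂ θ) ((InjectiveObject.ι A).mapHomotopyCategoryPlus.obj Y)
    haveI := isIso_unit_map F G hF Y
    haveI : IsIso ((EtSix.rPlusUnit₂ θ).app ((InjectiveObject.ι A).mapHomotopyCategoryPlus.obj Y)) := by
      simp only [EtSix.rPlusUnit₂, NatTrans.comp_app, Functor.whiskerRight_app,
        Functor.whiskerLeft_app, Functor.associator_hom_app, Functor.associator_inv_app,
        Category.id_comp, Category.comp_id]
      infer_instance
    exact IsIso.of_isIso_fac_left hfac
  have h' : ∀ K, IsIso ((EtSix.rPlusDesc₂ θ).app K) := fun K => by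
    haveI := h ((RDPlus.Basic.injToD A).objPreimage K)
    exact (NatTrans.isIso_app_iff_of_iso (EtSix.rPlusDesc₂ θ)
      ((RDPlus.Basic.injToD A).objObjPreimageIso K)).1 (h _)
  exact NatIso.isIso_of_isIso_app _

/-- A right adjoint of an exact functor preserves K-injective complexes. -/
theorem isKInjective_map {L : B ⥤ A} {R : A ⥤ B} (adj : L ⊣ R) [L.Additive] [R.Additive]
    [PreservesFiniteLimits L] [PreservesFiniteColimits L] (I : CochainComplex A ℤ) [I.IsKInjective] :
    CochainComplex.IsKInjective ((R.mapHomologicalComplex (ComplexShape.up ℤ)).obj I) where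
  nonempty_homotopy_zero {K} f hK := by
    let ψ : (L.mapHomologicalComplex (ComplexShape.up ℤ)).obj K ⟶ I :=
      { f := fun n => (adj.homEquiv _ _).symm (f.f n)
        comm' := fun i j _ =>
          (adj.homEquiv_naturality_right_symm (f.f i) (I.d i j)).symm.trans
            ((congrArg (adj.homEquiv _ _).symm (f.comm i j)).trans
              (adj.homEquiv_naturality_left_symm (K.d i j) (f.f j))) }
    obtain ⟨h⟩ := CochainComplex.IsKInjective.nonempty_homotopy_zero ψ
      (fun n => by
        rw [HomologicalComplex.exactAt_iff]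
        exact (hK n).map L)
    let η : K ⟶ (R.mapHomologicalComplex (ComplexShape.up ℤ)).obj
        ((L.mapHomologicalComplex (ComplexShape.up ℤ)).obj K) :=
      { f := fun n => adj.unit.app (K.X n)
        comm' := fun i j _ => (adj.unit.naturality (K.d i j)).symm }
    have hfac : η ≫ (R.mapHomologicalComplex (ComplexShape.up ℤ)).map ψ = f := by
      ext n
      exact (adj.homEquiv_unit _ _ _).symm.trans ((adj.homEquiv _ _).apply_symm_apply (f.f n))
    exact ⟨(Homotopy.ofEq hfac.symm).trans (((R.mapHomotopy h).compLeft η).trans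
      (Homotopy.ofEq (by rw [Functor.map_zero, comp_zero])))⟩

/-- Right derived functors of exact-left-adjoint functors compose on unbounded derived categories. -/
theorem isIso_app_of_kInjective [IsGrothendieckAbelian.{v₁} A] {H' : Type*} [Category H']
    {P : HomotopyCategory A (ComplexShape.up ℤ) ⥤ H'} (RP : DerivedCategory A ⥤ H')
    (α : P ⟶ DerivedCategory.Qh ⋙ RP)
    [RP.IsRightDerivedFunctor α (HomotopyCategory.quasiIso A (ComplexShape.up ℤ))]
    (I : CochainComplex A ℤ) [I.IsKInjective] :
    IsIso (α.app ((HomotopyCategory.quotient A (ComplexShape.up ℤ)).obj I)) :=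
  DTrunc.RightDerived.HasEnough.isIso_app (W := HomotopyCategory.quasiIso A (ComplexShape.up ℤ)) RP α
    (DTrunc.RightDerived.hasEnough P) (DTrunc.RightDerived.isGood_quotient P I)

end Groth.Agent.EtSixLib
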